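import Mathlib
import Cfsg.Prelude.Def_Blocks
import Cfsg.Agent.Lib.Chars.Completeness
import Cfsg.Agent.Lib.Chars.Ops
import Cfsg.Agent.Lib.Supersolvable.Schmidt

/-!
# Groups of central type containing a given solvable group modulo the centre

A model is a projective representation `ρ` of a group `T` of order `n ^ 2` by `n × n` matrices,
with cocycle of `m`-th roots of unity and vanishing traces off the identity.
-/

set_option autoImplicit false

namespace Cfsg.Agent.Lib.CentralType

open Cfsg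
open Cfsg.Agent.Lib
open scoped ComplexConjugate Kronecker

universe u

/-- A projective representation of central type. -/
structure Model (m : ℕ) (T ι : Type u) [Group T] [Fintype ι] [DecidableEq ι] where
  /-- The matrices. -/
  ρ : T → Matrix ι ι ℂ
  /-- The cocycle. -/
  c : T → T → ℂ
  one : ρ 1 = 1
  mul : ∀ a b, ρ a * ρ b = c a b • ρ (a * b)
  root : ∀ a b, c a b ^ m = 1
  trace : ∀ a, a ≠ 1 → (ρ a).trace = 0
  card : Nat.card T = Fintype.card ι ^ 2

section Step

variable {T ι : Type u} [Group T] [Fintype ι] [DecidableEq ι] {m : ℕ} (M : Model m T ι)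
  {Q : Type u} [CommGroup Q] [Fintype Q] [DecidableEq Q]

/-- The tensor power with a shift. -/
def wrMat (g : RegularWreathProduct T Q) : Matrix (Q → ι) (Q → ι) ℂ :=
  Matrix.of fun i j => ∏ x, M.ρ (g.left x) (i x) (j (g.right⁻¹ * x))

theorem wrMat_one : wrMat M (1 : RegularWreathProduct T Q) = 1 := by
  ext i j
  simp only [wrMat, Matrix.of_apply, RegularWreathProduct.one_left, RegularWreathProduct.one_right,
    Pi.one_apply, M.one, inv_one, one_mul]
  rcases eq_or_ne i j with rfl | h
  · simp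
  · rw [Matrix.one_apply_ne h]
    obtain ⟨x, hx⟩ := Function.ne_iff.1 h
    exact Finset.prod_eq_zero (Finset.mem_univ x) (Matrix.one_apply_ne hx)

theorem wrMat_mul (g h : RegularWreathProduct T Q) :
    wrMat M g * wrMat M h =
      (∏ x, M.c (g.left x) (h.left (g.right⁻¹ * x))) • wrMat M (g * h) := by
  ext i j
  simp only [wrMat, Matrix.mul_apply, Matrix.of_apply, Matrix.smul_apply,
    RegularWreathProduct.mul_left, RegularWreathProduct.mul_right, Pi.mul_apply, smul_eq_mul]
  rw [← Finset.prod_mul_distrib]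
  have hR : ∀ x, M.c (g.left x) (h.left (g.right⁻¹ * x)) *
      M.ρ (g.left x * h.left (g.right⁻¹ * x)) (i x) (j ((g.right * h.right)⁻¹ * x)) =
      ∑ k : ι, M.ρ (g.left x) (i x) k *
        M.ρ (h.left (g.right⁻¹ * x)) k (j ((g.right * h.right)⁻¹ * x)) := fun x => by
    rw [← Matrix.mul_apply, M.mul]
    rfl
  rw [Finset.prod_congr rfl fun x _ => hR x, Fintype.prod_sum]
  refine Fintype.sum_equiv (Equiv.arrowCongr (Equiv.mulLeft g.right) (Equiv.refl ι)) _ _ fun k => ?_
  rw [← Equiv.prod_comp (Equiv.mulLeft g.right⁻¹)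
    (fun x => M.ρ (h.left x) (k x) (j (h.right⁻¹ * x))), ← Finset.prod_mul_distrib]
  refine Finset.prod_congr rfl fun x _ => ?_
  simp [mul_inv_rev, mul_assoc, mul_comm g.right⁻¹]

theorem trace_wrMat (f : Q → T) :
    (wrMat M (⟨f, 1⟩ : RegularWreathProduct T Q)).trace = ∏ x, (M.ρ (f x)).trace := by
  simp only [Matrix.trace, Matrix.diag_apply, wrMat, Matrix.of_apply, inv_one, one_mul]
  rw [Fintype.prod_sum]

/-- The Heisenberg matrices. -/
def heisMat (a : Q) (l : Q →* ℂˣ) : Matrix Q Q ℂ :=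
  Matrix.of fun x y => if x = a * y then (l y : ℂ) else 0

theorem heisMat_one : heisMat (1 : Q) 1 = 1 := by
  ext x y
  simp [heisMat, Matrix.one_apply]

theorem heisMat_mul (a a' : Q) (l l' : Q →* ℂˣ) :
    heisMat a l * heisMat a' l' = (l a' : ℂ) • heisMat (a * a') (l * l') := by
  ext x z
  simp only [heisMat, Matrix.mul_apply, Matrix.of_apply, Matrix.smul_apply, smul_eq_mul,
    mul_ite, mul_zero, Finset.sum_ite_eq', Finset.mem_univ, if_true, ite_mul, zero_mul]
  rw [mul_assoc a a' z]
  refine ite_congr rfl (fun _ => ?_) (fun _ => rfl)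
  simp only [map_mul, MonoidHom.mul_apply, Units.val_mul]
  ring

theorem trace_heisMat {a : Q} {l : Q →* ℂˣ} (h : ¬ (a = 1 ∧ l = 1)) :
    (heisMat a l).trace = 0 := by
  simp only [Matrix.trace, Matrix.diag_apply, heisMat, Matrix.of_apply]
  by_cases ha : a = 1
  · subst ha
    simp only [one_mul, if_true]
    have hl : l ≠ 1 := fun e => h ⟨rfl, e⟩
    exact sum_hom_units_eq_zero ((Units.coeHom ℂ).comp l) fun e => hl (MonoidHom.ext fun y =>
      Units.ext (by simpa using DFunLike.congr_fun e y))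
  · exact Finset.sum_eq_zero fun x _ => if_neg fun e => ha (mul_eq_right.1 e.symm)

/-- The next model. -/
def stepModel (hq : Fintype.card Q ∣ m) (hcard : Nat.card (Q →* ℂˣ) = Fintype.card Q) :
    Model m (RegularWreathProduct T Q × (Q →* ℂˣ)) ((Q → ι) × Q) where
  ρ g := wrMat M g.1 ⊗ₖ heisMat g.1.right g.2
  c g h := (∏ x, M.c (g.1.left x) (h.1.left (g.1.right⁻¹ * x))) * (g.2 h.1.right : ℂ)
  one := by
    show wrMat M (1 : RegularWreathProduct T Q) ⊗ₖ heisMat (1 : Q) 1 = 1
    rw [wrMat_one, heisMat_one, Matrix.one_kronecker_one]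
  mul g h := by
    show wrMat M g.1 ⊗ₖ heisMat g.1.right g.2 * (wrMat M h.1 ⊗ₖ heisMat h.1.right h.2) = _
    rw [← Matrix.mul_kronecker_mul, wrMat_mul, heisMat_mul, Matrix.smul_kronecker,
      Matrix.kronecker_smul, smul_smul]
    rfl
  root g h := by
    rw [mul_pow, ← Finset.prod_pow, Finset.prod_eq_one fun x _ => M.root _ _, one_mul]
    obtain ⟨k, rfl⟩ := hq
    rw [← Units.val_pow_eq_pow_val, ← map_pow, pow_mul, pow_card_eq_one, one_pow, map_one,
      Units.val_one]
  trace g hg := by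
    rw [Matrix.trace_kronecker]
    by_cases h : g.1.right = 1 ∧ g.2 = 1
    · obtain ⟨⟨f, a⟩, l⟩ := g
      obtain ⟨rfl, rfl⟩ : a = 1 ∧ l = 1 := h
      obtain ⟨x, hx⟩ : ∃ x, f x ≠ 1 := by
        by_contra hall
        push Not at hall
        exact hg (Prod.ext (RegularWreathProduct.ext (funext hall) rfl) rfl)
      show (wrMat M (⟨f, 1⟩ : RegularWreathProduct T Q)).trace * _ = 0
      rw [trace_wrMat, Finset.prod_eq_zero (Finset.mem_univ x) (M.trace _ hx), zero_mul]
    · rw [trace_heisMat h, mul_zero]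
  card := by
    rw [Nat.card_prod, RegularWreathProduct.card, M.card, hcard, Nat.card_eq_fintype_card,
      Fintype.card_prod, Fintype.card_fun, mul_pow, ← pow_mul, ← pow_mul, mul_comm 2]
    ring

end Step

/-- The embedding into the wreath product with the quotient. -/
noncomputable def toWreath {G : Type u} [Group G] (N : Subgroup G) [N.Normal] :
    G →* RegularWreathProduct N (G ⧸ N) where
  toFun g := ⟨fun x => ⟨x.out⁻¹ * g * ((g : G ⧸ N)⁻¹ * x).out, by
    rw [← QuotientGroup.eq_one_iff]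
    simp⟩, g⟩
  map_one' := by
    refine RegularWreathProduct.ext (funext fun x => Subtype.ext ?_) rfl
    simp
  map_mul' g h := by
    refine RegularWreathProduct.ext (funext fun x => Subtype.ext ?_) rfl
    simp [mul_assoc, mul_inv_rev]

theorem toWreath_injective {G : Type u} [Group G] (N : Subgroup G) [N.Normal] :
    Function.Injective (toWreath N) := by
  rw [injective_iff_map_eq_one]
  intro g hg
  have h1 : (g : G ⧸ N) = 1 := congrArg RegularWreathProduct.right hg
  have h2 := congrArg Subtype.val (congrFun (congrArg RegularWreathProduct.left hg) 1)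
  simp only [toWreath, MonoidHom.coe_mk, OneHom.coe_mk, h1, inv_one, one_mul,
    RegularWreathProduct.one_left, Pi.one_apply, OneMemClass.coe_one] at h2
  rw [mul_assoc, inv_mul_eq_one] at h2
  exact mul_eq_right.1 h2.symm

/-- Every solvable group embeds in the group of some model. -/
theorem exists_model (m : ℕ) : ∀ (n : ℕ) (G : Type u) [Group G] [Finite G], Group.IsSolvable G →
    Nat.card G = n → (∀ p : ℕ, p.Prime → p ∣ Nat.card G → p ∣ m) →
    ∃ (T : Type u) (_ : Group T) (_ : Finite T) (ι : Type u) (_ : Fintype ι) (_ : DecidableEq ι)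
      (_ : Model m T ι), (∀ p : ℕ, p.Prime → p ∣ Nat.card T → p ∣ Nat.card G) ∧
      ∃ f : G →* T, Function.Injective f := by
  intro n
  induction n using Nat.strong_induction_on with | _ n ih => ?_
  intro G _ _ hsolv hn hm
  rcases subsingleton_or_nontrivial G with hG | hG
  · refine ⟨PUnit.{u+1}, inferInstance, inferInstance, PUnit.{u+1}, inferInstance, inferInstance,
      ⟨fun _ => 1, fun _ _ => 1, rfl, fun _ _ => by simp, fun _ _ => one_pow m,
        fun a ha => absurd (Subsingleton.elim a 1) ha, by simp⟩,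
      fun p hp h => ?_, 1, fun a b _ => Subsingleton.elim a b⟩
    rw [Nat.card_unique] at h
    exact absurd (Nat.dvd_one.1 h) hp.ne_one
  classical
  obtain ⟨N, hN, hprime⟩ := Supersolvable.exists_normal_prime_index G
  haveI := hN
  have hsN : Group.IsSolvable N := Group.isSolvable_of_isSolvable_injective N.subtype_injective
  have hlt : Nat.card N < n := by
    rw [← hn, ← N.card_mul_index]
    exact lt_mul_of_one_lt_right Nat.card_pos hprime.one_lt
  obtain ⟨T, _, _, ι, _, _, M, hTp, f, hf⟩ := ih _ hlt N hsN rfl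
    fun p hp h => hm p hp (h.trans (Subgroup.card_subgroup_dvd_card N))
  haveI := Fact.mk hprime
  haveI hcyc : IsCyclic (G ⧸ N) := isCyclic_of_prime_card (p := N.index) rfl
  letI : CommGroup (G ⧸ N) := IsCyclic.commGroup
  haveI : Fintype (G ⧸ N) := Fintype.ofFinite _
  have hcard : Nat.card (G ⧸ N →* ℂˣ) = Fintype.card (G ⧸ N) := by
    rw [← Nat.card_eq_fintype_card]
    exact CommGroup.card_monoidHom_of_hasEnoughRootsOfUnity (G ⧸ N) ℂ
  have hq : Fintype.card (G ⧸ N) = N.index := by rw [← Nat.card_eq_fintype_card]; rfl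
  haveI : Finite (G ⧸ N →* ℂˣ) := Finite.of_injective _ Chars.linIrr_injective
  refine ⟨RegularWreathProduct T (G ⧸ N) × (G ⧸ N →* ℂˣ), inferInstance, inferInstance,
    (G ⧸ N → ι) × (G ⧸ N), inferInstance, inferInstance,
    stepModel M (hq ▸ hm _ hprime N.index_dvd_card) hcard, fun p hp h => ?_, ?_, ?_⟩
  · rw [Nat.card_prod, RegularWreathProduct.card, hcard, Nat.card_eq_fintype_card (α := G ⧸ N), hq,
      mul_assoc] at h
    rcases (Nat.Prime.dvd_mul hp).1 h with h' | h'
    · exact (hTp p hp (hp.dvd_of_dvd_pow h')).trans (Subgroup.card_subgroup_dvd_card N)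
    · exact ((Nat.Prime.dvd_mul hp).1 h').elim (fun h'' => h''.trans N.index_dvd_card)
        fun h'' => h''.trans N.index_dvd_card
  · exact
      { toFun := fun g => (⟨f ∘ (toWreath N g).left, (toWreath N g).right⟩, 1)
        map_one' := by
          refine Prod.ext (RegularWreathProduct.ext (funext fun x => ?_) ?_) rfl <;> simp
        map_mul' := fun g h => by
          refine Prod.ext (RegularWreathProduct.ext (funext fun x => ?_) ?_) ?_ <;>
            simp [map_mul] }
  · intro g h e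
    refine toWreath_injective N (RegularWreathProduct.ext ?_ ?_)
    · exact hf.comp_left (congrArg (fun z => z.1.left) e :)
    · exact (congrArg (fun z => z.1.right) e :)

section Group

variable {T ι : Type u} [Group T] [Finite T] [Fintype ι] [DecidableEq ι] {m : ℕ}
  (M : Model m T ι) (hm : 0 < m)

include M in
theorem Model.card_pos_ι : 0 < Fintype.card ι := by
  by_contra h
  push Not at h
  have := M.card
  rw [Nat.le_zero.1 h] at this
  exact Nat.card_pos.ne' (this.trans (zero_pow two_ne_zero))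

include hm in
omit [Finite T] in
theorem Model.c_ne (a b : T) : M.c a b ≠ 0 := fun h => by
  have := M.root a b
  rw [h, zero_pow hm.ne'] at this
  exact zero_ne_one this

omit [Finite T] in
theorem root_ne {z : ℂ} (hm : 0 < m) (hz : z ^ m = 1) : z ≠ 0 := fun h => by
  rw [h, zero_pow hm.ne'] at hz
  exact zero_ne_one hz

include hm in
theorem Model.unique {a b : T} {z w : ℂ} (hz : z ≠ 0) (hw : w ≠ 0) (h : z • M.ρ a = w • M.ρ b) :
    a = b ∧ z = w := by
  have hn : (Fintype.card ι : ℂ) ≠ 0 := Nat.cast_ne_zero.2 M.card_pos_ι.ne'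
  have e := congrArg (fun X => (X * M.ρ b⁻¹).trace) h
  simp only [Matrix.smul_mul, M.mul, smul_smul, Matrix.trace_smul, smul_eq_mul, mul_inv_cancel,
    M.one, Matrix.trace_one] at e
  have hab : a = b := by
    by_contra hne
    rw [M.trace _ (fun h1 => hne (mul_inv_eq_one.1 h1)), mul_zero] at e
    exact mul_ne_zero (mul_ne_zero hw (M.c_ne hm _ _)) hn e.symm
  subst hab
  rw [mul_inv_cancel, M.one, Matrix.trace_one] at e
  exact ⟨rfl, mul_right_cancel₀ (M.c_ne hm _ _) (mul_right_cancel₀ hn e)⟩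

/-- The unit given by a group element and a root of unity. -/
noncomputable def Model.unit (a : T) (z : ℂ) (hz : z ≠ 0) : (Matrix ι ι ℂ)ˣ :=
  Units.mk (z • M.ρ a) ((z * M.c a a⁻¹)⁻¹ • M.ρ a⁻¹)
    (by
      rw [Matrix.smul_mul, Matrix.mul_smul, M.mul, mul_inv_cancel, M.one, smul_smul, smul_smul,
        show z * (z * M.c a a⁻¹)⁻¹ * M.c a a⁻¹ = (z * M.c a a⁻¹) * (z * M.c a a⁻¹)⁻¹ by ring,
        mul_inv_cancel₀ (mul_ne_zero hz (M.c_ne hm a a⁻¹)), one_smul])
    (by
      have hcc : M.c a⁻¹ a = M.c a a⁻¹ := by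
        have h6 : M.ρ a * M.ρ a⁻¹ * M.ρ a = M.ρ a * (M.ρ a⁻¹ * M.ρ a) := mul_assoc _ _ _
        rw [M.mul a a⁻¹, M.mul a⁻¹ a, mul_inv_cancel, inv_mul_cancel, M.one, Matrix.smul_mul,
          one_mul, Matrix.mul_smul, mul_one] at h6
        exact (M.unique hm (M.c_ne hm a a⁻¹) (M.c_ne hm a⁻¹ a) h6).2.symm
      rw [Matrix.smul_mul, Matrix.mul_smul, M.mul, inv_mul_cancel, M.one, smul_smul, smul_smul, hcc,
        mul_assoc, inv_mul_cancel₀ (mul_ne_zero hz (M.c_ne hm a a⁻¹)), one_smul])

theorem Model.unit_coe (a : T) (z : ℂ) (hz : z ≠ 0) :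
    (M.unit hm a z hz : Matrix ι ι ℂ) = z • M.ρ a := rfl

/-- The finite linear group of a model. -/
def Model.group : Subgroup (Matrix ι ι ℂ)ˣ where
  carrier := {x | ∃ (a : T) (z : ℂ), z ^ m = 1 ∧ (x : Matrix ι ι ℂ) = z • M.ρ a}
  one_mem' := ⟨1, 1, one_pow m, by simp [M.one]⟩
  mul_mem' := by
    rintro x y ⟨a, z, hz, hx⟩ ⟨b, w, hw, hy⟩
    refine ⟨a * b, z * w * M.c a b, by simp [mul_pow, hz, hw, M.root], ?_⟩
    rw [Units.val_mul, hx, hy, Matrix.smul_mul, Matrix.mul_smul, M.mul, smul_smul, smul_smul]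
  inv_mem' := by
    rintro x ⟨a, z, hz, hx⟩
    refine ⟨a⁻¹, (z * M.c a a⁻¹)⁻¹, by simp [inv_pow, mul_pow, hz, M.root], ?_⟩
    have : x = M.unit hm a z (root_ne hm hz) := Units.ext (hx.trans (M.unit_coe hm a z _).symm)
    rw [this]
    rfl

theorem Model.mem_group {x : (Matrix ι ι ℂ)ˣ} :
    x ∈ M.group hm ↔ ∃ (a : T) (z : ℂ), z ^ m = 1 ∧ (x : Matrix ι ι ℂ) = z • M.ρ a := Iff.rfl

theorem root_val (w : rootsOfUnity m ℂ) : (((w : ℂˣ)) : ℂ) ^ m = 1 := by
  rw [← Units.val_pow_eq_pow_val, (mem_rootsOfUnity m (w : ℂˣ)).1 w.2, Units.val_one]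

/-- The group as pairs. -/
noncomputable def Model.pairEquiv : T × rootsOfUnity m ℂ ≃ M.group hm :=
  Equiv.ofBijective
    (fun x => ⟨M.unit hm x.1 ((x.2 : ℂˣ) : ℂ) (Units.ne_zero _),
      ⟨x.1, _, root_val x.2, rfl⟩⟩)
    ⟨fun x y e => by
      have e' := congrArg (fun w : M.group hm => ((w : (Matrix ι ι ℂ)ˣ) : Matrix ι ι ℂ)) e
      simp only [M.unit_coe] at e'
      obtain ⟨h1, h2⟩ := M.unique hm (Units.ne_zero _) (Units.ne_zero _) e'
      exact Prod.ext h1 (Subtype.ext (Units.ext h2)),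
    fun w => by
      obtain ⟨a, z, hz, hw⟩ := w.2
      refine ⟨(a, ⟨Units.mk0 z (root_ne hm hz), Units.ext (by simpa using hz)⟩), ?_⟩
      exact Subtype.ext (Units.ext hw.symm)⟩

theorem Model.card_group : Nat.card (M.group hm) = Nat.card T * m := by
  haveI : NeZero m := ⟨hm.ne'⟩
  rw [← Nat.card_congr (M.pairEquiv hm), Nat.card_prod, Complex.card_rootsOfUnity]

theorem Model.finite_group : Finite (M.group hm) := by
  haveI : NeZero m := ⟨hm.ne'⟩
  exact Finite.of_equiv _ (M.pairEquiv hm)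

/-- The tautological representation. -/
noncomputable def Model.rep : Representation ℂ (M.group hm) (ι → ℂ) :=
  (Matrix.toLinAlgEquiv' (R := ℂ) (n := ι)).toAlgHom.toRingHom.toMonoidHom.comp
    ((Units.coeHom (Matrix ι ι ℂ)).comp (M.group hm).subtype)

theorem Model.rep_character (x : M.group hm) :
    (M.rep hm).character x = ((x : (Matrix ι ι ℂ)ˣ) : Matrix ι ι ℂ).trace :=
  Matrix.trace_toLin'_eq _

/-- The faithful irreducible character, and the centre. -/
theorem Model.exists_char : ∃ (_ : Finite (M.group hm)) (χ : IrrCharacter (M.group hm)),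
    (∀ x, (χ : M.group hm → ℂ) x = (χ : M.group hm → ℂ) 1 → x = 1) ∧
    charDegree (χ : M.group hm → ℂ) = Fintype.card ι ∧
    Nat.card (Subgroup.center (M.group hm)) = m ∧
    ∀ x : M.group hm, x ∈ Subgroup.center (M.group hm) ↔
      ∃ z : ℂ, z ^ m = 1 ∧ ((x : (Matrix ι ι ℂ)ˣ) : Matrix ι ι ℂ) = z • M.ρ 1 := by
  classical
  haveI hfin := M.finite_group hm
  haveI : Fintype (M.group hm) := Fintype.ofFinite _
  haveI : NeZero m := ⟨hm.ne'⟩
  haveI := Fintype.ofFinite T
  haveI := Fintype.ofFinite (rootsOfUnity m ℂ)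
  have hn := M.card_pos_ι
  have hnC : (Fintype.card ι : ℂ) ≠ 0 := Nat.cast_ne_zero.2 hn.ne'
  set f : M.group hm → ℂ := (M.rep hm).character with hf
  have hval : ∀ (x : M.group hm) (a : T) (z : ℂ), ((x : (Matrix ι ι ℂ)ˣ) : Matrix ι ι ℂ) = z • M.ρ a →
      f x = if a = 1 then z * Fintype.card ι else 0 := by
    intro x a z e
    rw [hf, M.rep_character hm, e, Matrix.trace_smul, smul_eq_mul]
    split_ifs with h
    · rw [h, M.one, Matrix.trace_one]
    · rw [M.trace a h, mul_zero]
  have hchar : Cfsg.IsCharacter (M.group hm) f := Chars.isCharacter_of_rep (M.rep hm)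
  have hnorm : classInner f f = 1 := by
    rw [Cfsg.classInner, ← (M.pairEquiv hm).sum_comp, Fintype.sum_prod_type,
      Finset.sum_eq_single (1 : T) (fun a _ ha => Finset.sum_eq_zero fun w _ => by
        rw [hval _ a ((w : ℂˣ) : ℂ) rfl, if_neg ha, zero_mul])
      (fun h => absurd (Finset.mem_univ _) h),
      Finset.sum_congr rfl fun w _ => show f _ * conj (f _) = (Fintype.card ι : ℂ) ^ 2 by
        rw [hval _ 1 ((w : ℂˣ) : ℂ) rfl, if_pos rfl, map_mul, Complex.conj_natCast,
          mul_mul_mul_comm, Complex.mul_conj, Complex.normSq_eq_norm_sq,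
          Complex.norm_eq_one_of_pow_eq_one (root_val w) hm.ne']
        push_cast; ring,
      Finset.sum_const, Finset.card_univ, nsmul_eq_mul, M.card_group hm, M.card,
      show Fintype.card (rootsOfUnity m ℂ) = m by
        rw [← Nat.card_eq_fintype_card, Complex.card_rootsOfUnity]]
    push_cast
    have : (m : ℂ) ≠ 0 := Nat.cast_ne_zero.2 hm.ne'
    field_simp
  have hirr := (Chars.isIrrCharacter_iff_classInner_eq_one hchar).2 hnorm
  have hf1 : f 1 = Fintype.card ι := by
    rw [hval 1 1 1 (by simp [M.one]), if_pos rfl, one_mul]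
  have hcentre : ∀ x : M.group hm, x ∈ Subgroup.center (M.group hm) ↔
      ∃ z : ℂ, z ^ m = 1 ∧ ((x : (Matrix ι ι ℂ)ˣ) : Matrix ι ι ℂ) = z • M.ρ 1 := by
    intro x
    constructor
    · intro hx
      obtain ⟨a, z, hz, e⟩ := x.2
      refine ⟨z, hz, ?_⟩
      suffices a = 1 by rw [← this]; exact e
      by_contra ha
      haveI : (M.rep hm).IsIrreducible := by
        by_contra hred
        haveI : Nonempty ι := Fintype.card_pos_iff.1 hn
        obtain ⟨n, σ, hσ, hσf⟩ := hirr
        exact hred (by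
          obtain ⟨e⟩ := Chars.equiv_of_char_eq σ (M.rep hm) hσf
          haveI := hσ
          exact Chars.isIrreducible_of_equiv e)
      obtain ⟨c, hc⟩ := Chars.exists_scalar_of_commute (M.rep hm) (M.rep hm x) fun y => by
        show M.rep hm x * M.rep hm y = M.rep hm y * M.rep hm x
        rw [← map_mul, ← map_mul, Subgroup.mem_center_iff.1 hx y]
      have h1 : f x = c * Fintype.card ι := by
        show LinearMap.trace ℂ (ι → ℂ) (M.rep hm x) = _
        rw [hc, map_smul, LinearMap.trace_one, Module.finrank_fintype_fun_eq_card, smul_eq_mul]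
      rw [hval x a z e, if_neg ha] at h1
      rw [(mul_eq_zero.1 h1.symm).resolve_right hnC, zero_smul] at hc
      have h2 := map_mul (M.rep hm) x x⁻¹
      rw [mul_inv_cancel, map_one, hc, zero_mul] at h2
      have h3 := congrArg (LinearMap.trace ℂ (ι → ℂ)) h2
      rw [LinearMap.trace_one, map_zero, Module.finrank_fintype_fun_eq_card] at h3
      exact hnC h3
    · rintro ⟨z, -, e⟩
      rw [Subgroup.mem_center_iff]
      intro y
      refine Subtype.ext (Units.ext ?_)
      simp [e, M.one]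
  refine ⟨hfin, ⟨f, hirr⟩, fun x hx => ?_, ?_, ?_, hcentre⟩
  · obtain ⟨a, z, hz, e⟩ := x.2
    have hx' : f x = f 1 := hx
    rw [hval x a z e, hf1] at hx'
    split_ifs at hx' with ha
    · rw [mul_eq_right₀ hnC] at hx'
      refine Subtype.ext (Units.ext ?_)
      rw [e, ha, hx', one_smul, M.one]
      rfl
    · exact absurd hx'.symm hnC
  · show ⌊(f 1).re⌋₊ = _
    rw [hf1]
    simp
  · have hsub : ∀ x : M.group hm, x ∈ Subgroup.center (M.group hm) ↔
        ((M.pairEquiv hm).symm x).1 = 1 := by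
      intro x
      obtain ⟨⟨a, w⟩, rfl⟩ := (M.pairEquiv hm).surjective x
      rw [Equiv.symm_apply_apply, hcentre]
      constructor
      · rintro ⟨z, hz, e⟩
        exact (M.unique hm (Units.ne_zero _) (root_ne hm hz) e).1
      · intro e
        exact ⟨((w : ℂˣ) : ℂ), root_val w, by
          show ((w : ℂˣ) : ℂ) • M.ρ a = _
          rw [show a = 1 from e]⟩
    refine Eq.trans ?_ (Complex.card_rootsOfUnity m)
    refine Nat.card_congr ((((M.pairEquiv hm).symm).subtypeEquiv
      (q := fun y : T × rootsOfUnity m ℂ => y.1 = 1) hsub).trans ?_)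
    exact
      { toFun := fun x => x.1.2
        invFun := fun w => ⟨(1, w), rfl⟩
        left_inv := fun x => Subtype.ext (Prod.ext x.2.symm rfl)
        right_inv := fun w => rfl }

end Group

/-- Every solvable group lives inside the inner automorphisms of a group of central type. -/
theorem exists_central_type {G : Type u} [Group G] [Finite G] (hsolv : Group.IsSolvable G) :
    ∃ (H : Type u) (_ : Group H) (_ : Finite H) (χ : Cfsg.IrrCharacter H),
      (∀ h : H, (χ : H → ℂ) h = (χ : H → ℂ) 1 → h = 1) ∧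
      (Cfsg.charDegree (χ : H → ℂ)) ^ 2 = (Subgroup.center H).index ∧
      (∃ f : G →* H ⧸ Subgroup.center H, Function.Injective f) ∧
      (∀ p : ℕ, p.Prime → ((p ∣ Nat.card H ↔ p ∣ Nat.card G) ∧
        (p ∣ Nat.card (Subgroup.center H) ↔ p ∣ Nat.card G))) ∧
      Squarefree (Nat.card (Subgroup.center H)) := by
  classical
  set m := ∏ p ∈ (Nat.card G).primeFactors, p with hm'
  have hm : 0 < m := Finset.prod_pos fun p hp => (Nat.prime_of_mem_primeFactors hp).pos
  have hsq : Squarefree m := Finset.squarefree_prod_of_pairwise_isCoprime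
    (fun p hp q hq hpq => Nat.coprime_iff_isRelPrime.1 ((Nat.coprime_primes
      (Nat.prime_of_mem_primeFactors hp) (Nat.prime_of_mem_primeFactors hq)).2 hpq))
    fun p hp => (Nat.prime_of_mem_primeFactors hp).squarefree
  have hmp : ∀ p : ℕ, p.Prime → (p ∣ m ↔ p ∣ Nat.card G) := by
    intro p hp
    rw [hm', hp.prime.dvd_finset_prod_iff]
    constructor
    · rintro ⟨q, hq, hpq⟩
      rw [(Nat.prime_dvd_prime_iff_eq hp (Nat.prime_of_mem_primeFactors hq)).1 hpq]
      exact Nat.dvd_of_mem_primeFactors hq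
    · exact fun h => ⟨p, Nat.mem_primeFactors.2 ⟨hp, h, Nat.card_pos.ne'⟩, dvd_rfl⟩
  obtain ⟨T, _, _, ι, _, _, M, hTp, f, hf⟩ :=
    exists_model m _ G hsolv rfl fun p hp h => (hmp p hp).2 h
  obtain ⟨hfin, χ, hfaith, hdeg, hZ, hcentre⟩ := M.exists_char hm
  have hidx : (Subgroup.center (M.group hm)).index = Nat.card T := by
    refine Nat.eq_of_mul_eq_mul_right hm ?_
    rw [← M.card_group hm]
    conv_rhs => rw [← Subgroup.index_mul_card (Subgroup.center (M.group hm)), hZ]
  let u : T → M.group hm := fun a => ⟨M.unit hm a 1 one_ne_zero, a, 1, one_pow m, rfl⟩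
  have hu : ∀ a b, (u (a * b))⁻¹ * (u a * u b) ∈ Subgroup.center (M.group hm) := by
    intro a b
    rw [hcentre]
    refine ⟨M.c a b, M.root a b, ?_⟩
    rw [Subgroup.coe_mul, Subgroup.coe_inv, Units.val_mul, Units.inv_mul_eq_iff_eq_mul,
      Subgroup.coe_mul, Units.val_mul, Matrix.mul_smul]
    show (1 : ℂ) • M.ρ a * ((1 : ℂ) • M.ρ b) = M.c a b • ((1 : ℂ) • M.ρ (a * b) * M.ρ 1)
    rw [one_smul, one_smul, one_smul, M.mul, M.one, mul_one]
  let π : T →* M.group hm ⧸ Subgroup.center (M.group hm) :=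
    MonoidHom.mk' (fun a => (u a : M.group hm ⧸ Subgroup.center (M.group hm))) fun a b => by
      rw [← QuotientGroup.mk_mul, QuotientGroup.eq]
      exact hu a b
  have hπ : Function.Injective π := by
    rw [injective_iff_map_eq_one]
    intro a ha
    obtain ⟨z, hz, e⟩ := (hcentre _).1 ((QuotientGroup.eq_one_iff (u a)).1 ha)
    exact (M.unique hm one_ne_zero (root_ne hm hz) e).1
  refine ⟨M.group hm, inferInstance, hfin, χ, hfaith, by rw [hdeg, hidx, M.card],
    ⟨π.comp f, hπ.comp hf⟩, fun p hp => ⟨?_, by rw [hZ]; exact hmp p hp⟩, by rw [hZ]; exact hsq⟩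
  rw [M.card_group hm, hp.dvd_mul, hmp p hp]
  exact ⟨fun h => h.elim (hTp p hp) id, Or.inr⟩

end Cfsg.Agent.Lib.CentralType
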